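import Mathlib

/-!
# Distinguishing numbers of primitive groups (Babai's bound)
-/

set_option autoImplicit false
set_option linter.all false

namespace CfsgLib.Perm.MinDegree

open Finset

variable (G : Type*) {Ω : Type*} [Group G] [MulAction G Ω]

/-- two pairs lie in one orbital -/
def SameCol (x y x' y' : Ω) : Prop := ∃ g : G, g • x = x' ∧ g • y = y'

variable {G}

theorem SameCol.refl (x y : Ω) : SameCol G x y x y := ⟨1, one_smul G x, one_smul G y⟩

theorem SameCol.symm {x y x' y' : Ω} (h : SameCol G x y x' y') : SameCol G x' y' x y := by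
  obtain ⟨g, rfl, rfl⟩ := h
  exact ⟨g⁻¹, inv_smul_smul g x, inv_smul_smul g y⟩

theorem SameCol.trans {x y x' y' x'' y'' : Ω} (h : SameCol G x y x' y') (h' : SameCol G x' y' x'' y'') :
    SameCol G x y x'' y'' := by
  obtain ⟨g, rfl, rfl⟩ := h
  obtain ⟨g', rfl, rfl⟩ := h'
  exact ⟨g' * g, mul_smul g' g x, mul_smul g' g y⟩

theorem SameCol.swap {x y x' y' : Ω} (h : SameCol G x y x' y') : SameCol G y x y' x' :=
  let ⟨g, h1, h2⟩ := h; ⟨g, h2, h1⟩

theorem sameCol_smul (g : G) (x y : Ω) : SameCol G x y (g • x) (g • y) := ⟨g, rfl, rfl⟩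

variable (G)

/-- the graph of an orbital and its transpose -/
def orbGraph (a b : Ω) : SimpleGraph Ω where
  Adj x y := x ≠ y ∧ (SameCol G a b x y ∨ SameCol G a b y x)
  symm := ⟨fun x y h => ⟨h.1.symm, h.2.symm⟩⟩
  loopless := ⟨fun x h => h.1 rfl⟩

/-- the graph of all other orbitals -/
def coGraph (a b : Ω) : SimpleGraph Ω where
  Adj x y := x ≠ y ∧ ¬ (SameCol G a b x y ∨ SameCol G a b y x)
  symm := ⟨fun x y h => ⟨h.1.symm, fun h' => h.2 h'.symm⟩⟩
  loopless := ⟨fun x h => h.1 rfl⟩

theorem orbGraph_adj_smul {a b x y : Ω} (g : G) (h : (orbGraph G a b).Adj x y) :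
    (orbGraph G a b).Adj (g • x) (g • y) :=
  ⟨fun e => h.1 (smul_left_cancel g e),
    h.2.imp (fun h' => h'.trans (sameCol_smul g _ _)) (fun h' => h'.trans (sameCol_smul g _ _))⟩

theorem coGraph_adj_smul {a b x y : Ω} (g : G) (h : (coGraph G a b).Adj x y) :
    (coGraph G a b).Adj (g • x) (g • y) :=
  ⟨fun e => h.1 (smul_left_cancel g e), fun h' => h.2 (h'.imp
    (fun h'' => h''.trans (sameCol_smul g _ _).symm) (fun h'' => h''.trans (sameCol_smul g _ _).symm))⟩

variable {G}

/-- an invariant graph -/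
def Invariant (G : Type*) {Ω : Type*} [Group G] [MulAction G Ω] (E : SimpleGraph Ω) : Prop :=
  ∀ (g : G) (x y : Ω), E.Adj x y → E.Adj (g • x) (g • y)

theorem invariant_orbGraph (a b : Ω) : Invariant G (orbGraph G a b) := fun g _ _ h => orbGraph_adj_smul G g h

theorem invariant_coGraph (a b : Ω) : Invariant G (coGraph G a b) := fun g _ _ h => coGraph_adj_smul G g h

theorem Invariant.adj_iff {E : SimpleGraph Ω} (hE : Invariant G E) (g : G) (x y : Ω) :
    E.Adj (g • x) (g • y) ↔ E.Adj x y :=
  ⟨fun h => by simpa using hE g⁻¹ _ _ h, hE g x y⟩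

theorem Invariant.reachable {E : SimpleGraph Ω} (hE : Invariant G E) (g : G) {x y : Ω} (h : E.Reachable x y) :
    E.Reachable (g • x) (g • y) :=
  h.map ⟨fun z => g • z, fun h' => hE g _ _ h'⟩

theorem Invariant.dist_smul_le {E : SimpleGraph Ω} (hE : Invariant G E) (hc : E.Connected) (g : G) (x y : Ω) :
    E.dist (g • x) (g • y) ≤ E.dist x y := by
  obtain ⟨p, hp⟩ := hc.exists_walk_length_eq_dist x y
  have h := SimpleGraph.dist_le (p.map (⟨fun z => g • z, fun h' => hE g _ _ h'⟩ : E →g E))
  rw [SimpleGraph.Walk.length_map, hp] at h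
  exact h

theorem Invariant.dist_eq {E : SimpleGraph Ω} (hE : Invariant G E) (hc : E.Connected) {x y x' y' : Ω}
    (h : SameCol G x y x' y') : E.dist x' y' = E.dist x y := by
  obtain ⟨g, rfl, rfl⟩ := h
  refine le_antisymm (hE.dist_smul_le hc g x y) ?_
  have := hE.dist_smul_le hc g⁻¹ (g • x) (g • y)
  rwa [inv_smul_smul, inv_smul_smul] at this

/-- non-empty invariant graphs of primitive groups are connected -/
theorem connected_of_primitive [MulAction.IsPreprimitive G Ω] {E : SimpleGraph Ω} (hE : Invariant G E) {a b : Ω}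
    (hab : E.Adj a b) : E.Connected := by
  have hB : MulAction.IsBlock G {z | E.Reachable a z} := by
    rw [MulAction.isBlock_iff_disjoint_smul_of_ne]
    intro g hne
    rw [Set.disjoint_left]
    rintro z ⟨w, hw, rfl⟩ hz
    refine hne ?_
    have hga : E.Reachable a (g • a) := hz.trans ((hE.reachable g hw).symm)
    ext y
    constructor
    · rintro ⟨v, hv, rfl⟩
      exact hga.trans (hE.reachable g hv)
    · intro hy
      refine ⟨g⁻¹ • y, ?_, smul_inv_smul g y⟩
      have := hE.reachable g⁻¹ (hga.symm.trans hy)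
      rwa [inv_smul_smul] at this
  rcases MulAction.IsPreprimitive.isTrivialBlock_of_isBlock hB with h | h
  · exact absurd (h (show E.Reachable a a from .refl a) hab.reachable) hab.ne
  · have hall : ∀ z, E.Reachable a z := fun z => Set.eq_univ_iff_forall.1 h z
    exact { preconnected := fun x y => (hall x).symm.trans (hall y), nonempty := ⟨a⟩ }

section Fin

variable [Fintype Ω] [DecidableEq Ω]

variable (G)

open Classical in
/-- the points distinguishing two points -/
noncomputable def dist2 (x y : Ω) : Finset Ω := univ.filter fun z => ¬ SameCol G z x z y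

open Classical in
/-- the out-neighbours in an orbital -/
noncomputable def colNbr (a b x : Ω) : Finset Ω := univ.filter fun w => SameCol G a b x w

variable {G}

theorem mem_dist2 {x y z : Ω} : z ∈ dist2 G x y ↔ ¬ SameCol G z x z y := by
  classical
  simp [dist2]

theorem mem_colNbr {a b x w : Ω} : w ∈ colNbr G a b x ↔ SameCol G a b x w := by
  classical
  simp [colNbr]

theorem dist2_comm (x y : Ω) : dist2 G x y = dist2 G y x := by
  ext z
  rw [mem_dist2, mem_dist2]
  exact not_congr ⟨SameCol.symm, SameCol.symm⟩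

theorem dist2_self (x : Ω) : dist2 G x x = ∅ :=
  Finset.eq_empty_of_forall_notMem fun z hz => mem_dist2.1 hz (SameCol.refl z x)

theorem card_dist2_smul (g : G) (x y : Ω) : (dist2 G (g • x) (g • y)).card = (dist2 G x y).card := by
  refine (Finset.card_nbij (fun z => g • z) (fun z hz => ?_) (fun z _ w _ h => smul_left_cancel g h) ?_).symm
  · rw [Finset.mem_coe, mem_dist2] at hz ⊢
    exact fun h => hz ((sameCol_smul g z x).trans (h.trans (sameCol_smul g z y).symm))
  · intro z hz
    rw [Finset.mem_coe, mem_dist2] at hz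
    refine ⟨g⁻¹ • z, ?_, smul_inv_smul g z⟩
    rw [Finset.mem_coe, mem_dist2]
    intro h
    refine hz ?_
    have h1 := sameCol_smul (G := G) g (g⁻¹ • z) x
    have h2 := sameCol_smul (G := G) g (g⁻¹ • z) y
    rw [smul_inv_smul] at h1 h2
    exact h1.symm.trans (h.trans h2)

theorem card_dist2_of_sameCol {x y x' y' : Ω} (h : SameCol G x y x' y' ∨ SameCol G x y y' x') :
    (dist2 G x' y').card = (dist2 G x y).card := by
  rcases h with ⟨g, rfl, rfl⟩ | ⟨g, rfl, rfl⟩
  · exact card_dist2_smul g x y
  · rw [dist2_comm, card_dist2_smul]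

theorem dist2_triangle (x y w : Ω) : dist2 G x w ⊆ dist2 G x y ∪ dist2 G y w := by
  intro z hz
  rw [Finset.mem_union, mem_dist2, mem_dist2]
  rw [mem_dist2] at hz
  by_contra h
  push Not at h
  exact hz (h.1.trans h.2)

/-- moving along a walk -/
theorem card_dist2_walk {E : SimpleGraph Ω} {D : ℕ} (hD : ∀ x y, E.Adj x y → (dist2 G x y).card ≤ D) {x y : Ω}
    (p : E.Walk x y) : (dist2 G x y).card ≤ p.length * D := by
  induction p with
  | nil => simp [dist2_self]
  | @cons u v w h p ih =>
    refine (Finset.card_le_card (dist2_triangle u v w)).trans ((Finset.card_union_le _ _).trans ?_)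
    rw [SimpleGraph.Walk.length_cons]
    have := hD u v h
    linarith

variable [MulAction.IsPretransitive G Ω]

theorem card_colNbr (a b x y : Ω) : (colNbr G a b x).card = (colNbr G a b y).card := by
  obtain ⟨g, rfl⟩ := MulAction.exists_smul_eq G x y
  refine Finset.card_nbij (fun z => g • z) (fun z hz => ?_) (fun z _ w _ h => smul_left_cancel g h) ?_
  · rw [Finset.mem_coe, mem_colNbr] at hz ⊢
    exact hz.trans (sameCol_smul g _ _)
  · intro z hz
    rw [Finset.mem_coe, mem_colNbr] at hz
    refine ⟨g⁻¹ • z, ?_, smul_inv_smul g z⟩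
    rw [Finset.mem_coe, mem_colNbr]
    have h := hz.trans (sameCol_smul (G := G) g⁻¹ (g • x) z)
    rwa [inv_smul_smul] at h

theorem degree_eq {E : SimpleGraph Ω} [DecidableRel E.Adj] (hE : Invariant G E) (x y : Ω) :
    E.degree x = E.degree y := by
  obtain ⟨g, rfl⟩ := MulAction.exists_smul_eq G x y
  refine Finset.card_nbij (fun z => g • z) (fun z hz => ?_) (fun z _ w _ h => smul_left_cancel g h) ?_
  · rw [Finset.mem_coe, SimpleGraph.mem_neighborFinset] at hz ⊢
    exact hE g x z hz
  · intro z hz
    rw [Finset.mem_coe, SimpleGraph.mem_neighborFinset] at hz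
    refine ⟨g⁻¹ • z, ?_, smul_inv_smul g z⟩
    rw [Finset.mem_coe, SimpleGraph.mem_neighborFinset]
    have h := hE g⁻¹ _ _ hz
    rwa [inv_smul_smul] at h

/-- the valency of an orbital graph against its distinguishing number -/
theorem degree_mul_le {E : SimpleGraph Ω} [DecidableRel E.Adj] (hE : Invariant G E) (hc : E.Connected) {D : ℕ}
    (hD : ∀ x y, E.Adj x y → (dist2 G x y).card ≤ D) (a : Ω) :
    2 * (Fintype.card Ω - 1) ≤ E.degree a * D := by
  classical
  obtain ⟨P, hP⟩ : ∃ P : Finset (Ω × Ω), P = univ.filter fun e => E.Adj e.1 e.2 := ⟨_, rfl⟩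
  have hPcard : P.card = Fintype.card Ω * E.degree a := by
    have h1 : P.card = ∑ x : Ω, E.degree x := by
      rw [hP, Finset.card_filter, Fintype.sum_prod_type]
      refine Finset.sum_congr rfl fun x _ => ?_
      rw [← Finset.card_filter, ← SimpleGraph.card_neighborFinset_eq_degree]
      congr 1
      ext y
      simp
    rw [h1, Finset.sum_congr rfl (fun x _ => degree_eq (G := G) hE x a), Finset.sum_const, Finset.card_univ, smul_eq_mul]
  have hlow : ∀ z : Ω, 2 * (Fintype.card Ω - 1) ≤ (P.filter fun e => z ∈ dist2 G e.1 e.2).card := by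
    intro z
    have hnext : ∀ x : Ω, x ≠ z → ∃ y, E.Adj x y ∧ E.dist z y + 1 ≤ E.dist z x := by
      intro x hx
      obtain ⟨p, hp⟩ := hc.exists_walk_length_eq_dist x z
      cases p with
      | nil => exact absurd rfl hx
      | @cons _ y _ h q =>
        refine ⟨y, h, ?_⟩
        rw [SimpleGraph.dist_comm, SimpleGraph.dist_comm (u := z)]
        have := SimpleGraph.dist_le q
        rw [SimpleGraph.Walk.length_cons] at hp
        omega
    choose nx hnx hnx' using hnext
    obtain ⟨F, hF⟩ : ∃ F : {x : Ω // x ≠ z} ⊕ {x : Ω // x ≠ z} → Ω × Ω,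
        F = Sum.elim (fun x => (x.1, nx x.1 x.2)) (fun x => (nx x.1 x.2, x.1)) := ⟨_, rfl⟩
    have hinj : Function.Injective F := by
      rw [hF]
      rintro (x | x) (y | y) h <;> simp only [Sum.elim_inl, Sum.elim_inr, Prod.mk.injEq] at h
      · exact congrArg Sum.inl (Subtype.ext h.1)
      · exfalso
        have h1 := hnx' x.1 x.2
        have h2 := hnx' y.1 y.2
        rw [h.2] at h1
        rw [← h.1] at h2
        omega
      · exfalso
        have h1 := hnx' x.1 x.2
        have h2 := hnx' y.1 y.2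
        rw [h.1] at h1
        rw [← h.2] at h2
        omega
      · exact congrArg Sum.inr (Subtype.ext h.2)
    have hmem : ∀ u, F u ∈ P.filter fun e => z ∈ dist2 G e.1 e.2 := by
      have hne : ∀ x (hx : x ≠ z), z ∈ dist2 G x (nx x hx) := fun x hx => mem_dist2.2 fun h => by
        have := hE.dist_eq hc h
        have := hnx' x hx
        omega
      rw [hF, hP]
      rintro (x | x) <;> simp only [Sum.elim_inl, Sum.elim_inr, Finset.mem_filter, Finset.mem_univ, true_and]
      · exact ⟨hnx _ _, hne _ _⟩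
      · exact ⟨(hnx _ _).symm, dist2_comm (G := G) x.1 _ ▸ hne _ _⟩
    have := Finset.card_le_card_of_injOn F (s := Finset.univ) (fun u _ => hmem u) hinj.injOn
    rw [Finset.card_univ, Fintype.card_sum, Fintype.card_subtype_compl, Fintype.card_subtype_eq] at this
    omega
  have hswap : ∑ z : Ω, (P.filter fun e => z ∈ dist2 G e.1 e.2).card = ∑ e ∈ P, (dist2 G e.1 e.2).card := by
    simp only [Finset.card_filter]
    rw [Finset.sum_comm]
    exact Finset.sum_congr rfl fun e _ => by simp
  have hup : ∑ e ∈ P, (dist2 G e.1 e.2).card ≤ P.card * D := by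
    refine (Finset.sum_le_card_nsmul _ _ D fun e he => hD _ _ ?_).trans (le_of_eq (smul_eq_mul _ _))
    rw [hP] at he
    simpa using he
  have htot := (Finset.card_nsmul_le_sum Finset.univ _ _ fun z _ => hlow z).trans (hswap.le.trans hup)
  rw [Finset.card_univ, smul_eq_mul, hPcard, mul_assoc] at htot
  exact Nat.le_of_mul_le_mul_left htot (Fintype.card_pos_iff.2 ⟨a⟩)

omit [MulAction.IsPretransitive G Ω] in
/-- points along a geodesic have disjoint neighbourhoods -/
theorem geodesic_balls {E : SimpleGraph Ω} [DecidableRel E.Adj] (hc : E.Connected) {N : ℕ} (hN : ∀ x, E.degree x = N)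
    (a b : Ω) (k : ℕ) (hk : ∀ j < k, 3 * j ≤ E.dist a b) :
    k * (N + 1) ≤ (univ.filter fun w => ∃ j < k, E.dist a w ≤ 3 * j + 1).card := by
  classical
  obtain ⟨p, hp⟩ := hc.exists_walk_length_eq_dist a b
  have hget : ∀ j < k, E.dist a (p.getVert (3 * j)) = 3 * j := fun j hj => by
    refine le_antisymm ((SimpleGraph.dist_le (p.take (3 * j))).trans ?_) ?_
    · rw [SimpleGraph.Walk.take_length]; exact min_le_left _ _
    · have h1 := SimpleGraph.dist_le (p.drop (3 * j))
      rw [SimpleGraph.Walk.drop_length, hp] at h1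
      have h2 := hc.dist_triangle (u := a) (v := p.getVert (3 * j)) (w := b)
      have := hk j hj
      omega
  obtain ⟨B, hB⟩ : ∃ B : ℕ → Finset Ω, ∀ j, B j = insert (p.getVert (3 * j)) (E.neighborFinset (p.getVert (3 * j))) :=
    ⟨_, fun j => rfl⟩
  have hBd : ∀ j < k, ∀ w ∈ B j, 3 * j ≤ E.dist a w + 1 ∧ E.dist a w ≤ 3 * j + 1 := fun j hj w hw => by
    rw [hB, Finset.mem_insert, SimpleGraph.mem_neighborFinset] at hw
    have h0 := hget j hj
    rcases hw with rfl | hw
    · omega
    · have h1 := hc.dist_triangle (u := a) (v := p.getVert (3 * j)) (w := w)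
      have h2 := hc.dist_triangle (u := a) (v := w) (w := p.getVert (3 * j))
      rw [SimpleGraph.dist_eq_one_iff_adj.2 hw] at h1
      rw [SimpleGraph.dist_eq_one_iff_adj.2 hw.symm] at h2
      omega
  have hBc : ∀ j, (B j).card = N + 1 := fun j => by
    rw [hB, Finset.card_insert_of_notMem (by simp), SimpleGraph.card_neighborFinset_eq_degree, hN]
  have hdis : ((Finset.range k : Finset ℕ) : Set ℕ).PairwiseDisjoint B := by
    intro i hi j hj hij
    rw [Finset.mem_coe, Finset.mem_range] at hi hj
    show Disjoint (B i) (B j)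
    rw [Finset.disjoint_left]
    intro w h1 h2
    have := hBd i hi w h1
    have := hBd j hj w h2
    omega
  have h := Finset.card_le_card (show (Finset.range k).biUnion B ⊆
      univ.filter fun w => ∃ j < k, E.dist a w ≤ 3 * j + 1 from fun w hw => by
    obtain ⟨j, hj, hw⟩ := Finset.mem_biUnion.1 hw
    rw [Finset.mem_range] at hj
    rw [Finset.mem_filter]
    exact ⟨Finset.mem_univ _, j, hj, (hBd j hj w hw).2⟩)
  rw [Finset.card_biUnion hdis, Finset.sum_congr rfl (fun j _ => hBc j), Finset.sum_const, Finset.card_range,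
    smul_eq_mul] at h
  exact h

/-- the average distinguishing number -/
theorem sum_dist2 (o : Ω) :
    ∑ e : Ω × Ω, (dist2 G e.1 e.2).card = Fintype.card Ω * ∑ x : Ω, (Fintype.card Ω - (colNbr G o x o).card) := by
  classical
  have hswap : ∑ e : Ω × Ω, (dist2 G e.1 e.2).card =
      ∑ z : Ω, ∑ x : Ω, (univ.filter fun y => ¬ SameCol G z x z y).card := by
    simp only [dist2, Finset.card_filter, Fintype.sum_prod_type]
    rw [Finset.sum_comm]
    refine (Finset.sum_congr rfl fun y _ => Finset.sum_comm).trans ?_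
    rw [Finset.sum_comm]
    exact Finset.sum_congr rfl fun z _ => Finset.sum_comm
  rw [hswap]
  have hz : ∀ z : Ω, ∑ x : Ω, (univ.filter fun y => ¬ SameCol G z x z y).card =
      ∑ x : Ω, (Fintype.card Ω - (colNbr G o x o).card) := fun z => by
    obtain ⟨g, rfl⟩ := MulAction.exists_smul_eq G o z
    rw [← Equiv.sum_comp (MulAction.toPerm g)]
    refine Finset.sum_congr rfl fun x _ => ?_
    rw [show (univ.filter fun y => ¬ SameCol G (g • o) (MulAction.toPerm g x) (g • o) y) =
        (colNbr G (g • o) (g • x) (g • o))ᶜ from ?_, Finset.card_compl]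
    · congr 1
      rw [← card_colNbr (g • o) (g • x) o (g • o)]
      congr 1
      ext w
      rw [mem_colNbr, mem_colNbr]
      exact ⟨fun h => (sameCol_smul g o x).trans h, fun h => (sameCol_smul g o x).symm.trans h⟩
    · ext w
      simp [mem_colNbr]
  rw [Finset.sum_congr rfl (fun z _ => hz z), Finset.sum_const, Finset.card_univ, smul_eq_mul]

variable [MulAction.IsPreprimitive G Ω]

/-- Babai's bound on distinguishing numbers -/
theorem four_mul_sq_dist2 (o : Ω) (huni : ∃ x y : Ω, o ≠ x ∧ o ≠ y ∧ ¬ SameCol G o x o y) {a b : Ω} (hab : a ≠ b) :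
    Fintype.card Ω - 1 ≤ 4 * (dist2 G a b).card ^ 2 := by
  classical
  obtain ⟨n, hn⟩ : ∃ n, n = Fintype.card Ω := ⟨_, rfl⟩
  obtain ⟨x₀, y₀, hx₀, hy₀, hxy₀⟩ := huni
  have hn2 : 1 < n := lt_of_lt_of_eq (Fintype.one_lt_card_iff.2 ⟨a, b, hab⟩) hn.symm
  obtain ⟨c, hc, hcmax⟩ := Finset.exists_max_image (univ.erase o) (fun x => (colNbr G o x o).card)
    ⟨x₀, Finset.mem_erase.2 ⟨hx₀.symm, Finset.mem_univ _⟩⟩
  have hco : o ≠ c := fun h => (Finset.mem_erase.1 hc).1 h.symm
  obtain ⟨m, hm⟩ : ∃ m, m = (colNbr G o c o).card := ⟨_, rfl⟩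
  obtain ⟨⟨p, q⟩, -, hM⟩ := Finset.exists_max_image (univ : Finset (Ω × Ω)) (fun e => (dist2 G e.1 e.2).card)
    ⟨(a, b), Finset.mem_univ _⟩
  obtain ⟨M, hMdef⟩ : ∃ M, M = (dist2 G p q).card := ⟨_, rfl⟩
  have hsum_le : ∑ e : Ω × Ω, (dist2 G e.1 e.2).card ≤ n * ((n - 1) * M) := by
    rw [Fintype.sum_prod_type, hn, ← smul_eq_mul (Fintype.card Ω) _, ← Finset.card_univ, ← Finset.sum_const]
    refine Finset.sum_le_sum fun x _ => ?_
    rw [← Finset.add_sum_erase _ _ (Finset.mem_univ x)]
    simp only [dist2_self, Finset.card_empty, zero_add]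
    refine (Finset.sum_le_card_nsmul _ _ M fun y _ => hMdef ▸ hM (x, y) (Finset.mem_univ _)).trans (le_of_eq ?_)
    rw [Finset.card_erase_of_mem (Finset.mem_univ _), Finset.card_univ, smul_eq_mul]
  rw [sum_dist2 o, ← hn] at hsum_le
  have hsum : ∑ x : Ω, (n - (colNbr G o x o).card) ≤ (n - 1) * M := Nat.le_of_mul_le_mul_left hsum_le (by omega)
  obtain ⟨E, hE⟩ : ∃ E, E = orbGraph G a b := ⟨_, rfl⟩
  have hEab : E.Adj a b := hE ▸ ⟨hab, Or.inl (SameCol.refl a b)⟩
  have hEi : Invariant G E := hE ▸ invariant_orbGraph a b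
  have hEc : E.Connected := connected_of_primitive hEi hEab
  have hED : ∀ x y, E.Adj x y → (dist2 G x y).card ≤ (dist2 G a b).card := fun x y h => by
    rw [hE] at h
    exact le_of_eq (card_dist2_of_sameCol h.2)
  obtain ⟨N, hN⟩ : ∃ N, ∀ x, E.degree x = N := ⟨E.degree a, fun x => degree_eq (G := G) hEi x a⟩
  have hND : 2 * (n - 1) ≤ N * (dist2 G a b).card := by
    have := degree_mul_le hEi hEc hED a
    rwa [hN, ← hn] at this
  obtain ⟨D, hD⟩ : ∃ D, D = (dist2 G a b).card := ⟨_, rfl⟩
  rw [← hD] at hND hED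
  rw [← hD, ← hn]
  by_cases hm2 : 2 * m ≤ n
  · -- no dominant orbital
    have hlow : (n - 1) * n ≤ 2 * ∑ x : Ω, (n - (colNbr G o x o).card) := by
      rw [← Finset.add_sum_erase _ _ (Finset.mem_univ o), mul_add]
      refine le_trans ?_ (Nat.le_add_left _ _)
      rw [Finset.mul_sum]
      refine le_trans (le_of_eq ?_) (Finset.card_nsmul_le_sum _ _ n fun x hx => ?_)
      · rw [Finset.card_erase_of_mem (Finset.mem_univ _), Finset.card_univ, ← hn, smul_eq_mul]
      · have h1 := hm ▸ hcmax x hx
        omega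
    have hMn : n ≤ 2 * M := by
      have h : (n - 1) * n ≤ (n - 1) * (2 * M) := hlow.trans ((Nat.mul_le_mul_left 2 hsum).trans (le_of_eq (by ring)))
      exact Nat.le_of_mul_le_mul_left h (by omega)
    obtain ⟨w, hw⟩ := hEc.exists_walk_length_eq_dist p q
    have hMd : M ≤ E.dist p q * D := by
      rw [← hw, hMdef]
      exact card_dist2_walk hED w
    have hball := geodesic_balls hEc hN p q (E.dist p q / 3 + 1) (fun j hj => by omega)
    have hle := hball.trans (Finset.card_le_univ _)
    rw [← hn] at hle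
    have hdN : E.dist p q * N ≤ 3 * n := by
      have h1 : E.dist p q * N ≤ 3 * (E.dist p q / 3 + 1) * (N + 1) := Nat.mul_le_mul (by omega) (by omega)
      rw [mul_assoc] at h1
      exact h1.trans (Nat.mul_le_mul_left 3 hle)
    obtain ⟨d', hd'⟩ : ∃ d', d' = E.dist p q := ⟨_, rfl⟩
    rw [← hd'] at hMd hdN
    have h1 : n * (2 * (n - 1)) ≤ (2 * (d' * D)) * (N * D) := Nat.mul_le_mul (by omega) hND
    have h2 : (2 * (d' * D)) * (N * D) ≤ 2 * (3 * n) * (D * D) :=
      calc (2 * (d' * D)) * (N * D) = 2 * (d' * N) * (D * D) := by ring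
        _ ≤ _ := Nat.mul_le_mul_right _ (Nat.mul_le_mul_left 2 hdN)
    have h3 : n * (2 * (n - 1)) ≤ n * (6 * (D * D)) := (h1.trans h2).trans (le_of_eq (by ring))
    have h4 := Nat.le_of_mul_le_mul_left h3 (by omega)
    rw [sq]
    omega
  · -- a dominant orbital
    have hsym : SameCol G o c c o := by
      by_contra hns
      obtain ⟨Pin, hPin⟩ : ∃ Pin : Finset Ω, Pin = univ.filter fun w => SameCol G o c w o := ⟨_, rfl⟩
      have hin : Pin.card = m := by
        have hcount : ∑ x : Ω, (colNbr G o c x).card = ∑ y : Ω, (univ.filter fun w => SameCol G o c w y).card := by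
          simp only [colNbr, Finset.card_filter]
          rw [Finset.sum_comm]
        have hinconst : ∀ y, (univ.filter fun w => SameCol G o c w y).card = Pin.card := fun y => by
          obtain ⟨g, rfl⟩ := MulAction.exists_smul_eq G o y
          rw [hPin]
          refine (Finset.card_nbij (fun z => g • z) (fun z hz => ?_) (fun z _ w _ h => smul_left_cancel g h) ?_).symm
          · simp only [Finset.coe_filter, Finset.mem_univ, true_and, Set.mem_setOf_eq] at hz ⊢
            exact hz.trans (sameCol_smul g _ _)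
          · intro z hz
            simp only [Finset.coe_filter, Finset.mem_univ, true_and, Set.mem_setOf_eq] at hz
            refine ⟨g⁻¹ • z, ?_, smul_inv_smul g z⟩
            simp only [Finset.coe_filter, Finset.mem_univ, true_and, Set.mem_setOf_eq]
            have h := hz.trans (sameCol_smul (G := G) g⁻¹ z (g • o))
            rwa [inv_smul_smul] at h
        rw [Finset.sum_congr rfl (fun x _ => card_colNbr o c x o), Finset.sum_congr rfl (fun y _ => hinconst y),
          Finset.sum_const, Finset.sum_const, Finset.card_univ, smul_eq_mul, smul_eq_mul, ← hm] at hcount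
        exact (Nat.eq_of_mul_eq_mul_left (by omega) hcount).symm
      have hdis : Disjoint (colNbr G o c o) Pin := Finset.disjoint_left.2 fun w h1 h2 => by
        rw [mem_colNbr] at h1
        rw [hPin, Finset.mem_filter] at h2
        exact hns (h1.trans h2.2.symm.swap)
      have := (Finset.card_union_of_disjoint hdis).symm.trans_le (Finset.card_le_univ _)
      omega
    have hsymm : ∀ x y, SameCol G o c x y → SameCol G o c y x := fun x y h => hsym.trans h.swap
    have hno : o ∉ colNbr G o c o := fun h => by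
      rw [mem_colNbr] at h
      obtain ⟨g, h1, h2⟩ := h
      exact hco (smul_left_cancel g (h1.trans h2.symm))
    obtain ⟨R, hR⟩ : ∃ R, R = univ \ insert o (colNbr G o c o) := ⟨_, rfl⟩
    obtain ⟨ρ, hρ⟩ : ∃ ρ, ρ = R.card := ⟨_, rfl⟩
    have hρn : ρ + m + 1 = n := by
      rw [hρ, hR, Finset.card_sdiff_of_subset (Finset.subset_univ _), Finset.card_insert_of_notMem hno, ← hm,
        Finset.card_univ, ← hn]
      have h : (insert o (colNbr G o c o)).card ≤ n := hn ▸ Finset.card_le_univ _
      rw [Finset.card_insert_of_notMem hno, ← hm] at h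
      omega
    have hrow : m * (ρ + 1) * 2 ≤ (n - 1) * M := by
      refine le_trans ?_ hsum
      have hsplit : (univ : Finset Ω) = insert o (colNbr G o c o ∪ R) := by
        ext w
        simp [hR]
        tauto
      rw [hsplit, Finset.sum_insert (by simp [hR, hno]), Finset.sum_union (Finset.disjoint_left.2 fun w h1 h2 => by
        simp [hR] at h2; exact h2.2 h1)]
      have hA : m * (n - m) ≤ ∑ x ∈ colNbr G o c o, (n - (colNbr G o x o).card) := by
        conv_lhs => rw [hm, ← smul_eq_mul]
        refine Finset.card_nsmul_le_sum _ _ _ fun x hx => ?_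
        have h1 : (colNbr G o x o).card ≤ m := hm ▸ hcmax x (Finset.mem_erase.2 ⟨fun h => hno (h ▸ hx), Finset.mem_univ _⟩)
        rw [← hm]
        omega
      have hB : ρ * (n - ρ) ≤ ∑ x ∈ R, (n - (colNbr G o x o).card) := by
        conv_lhs => rw [hρ, ← smul_eq_mul]
        refine Finset.card_nsmul_le_sum _ _ _ fun x hx => ?_
        have hsub : colNbr G o x o ⊆ R := fun w hw => by
          rw [mem_colNbr] at hw
          rw [hR] at hx ⊢
          simp only [Finset.mem_sdiff, Finset.mem_univ, true_and, Finset.mem_insert, mem_colNbr, not_or] at hx ⊢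
          refine ⟨fun h => ?_, fun h => hx.2 (h.trans hw.symm)⟩
          obtain ⟨g, h1, h2⟩ := hw
          exact hx.1 (smul_left_cancel g (h2.trans (h.trans h1.symm)))
        have := Finset.card_le_card hsub
        omega
      have e1 : n - m = ρ + 1 := by omega
      have e2 : n - ρ = m + 1 := by omega
      rw [e1] at hA
      rw [e2] at hB
      have ho1 : (colNbr G o o o).card = 1 := Finset.card_eq_one.2 ⟨o, by
        ext w
        rw [mem_colNbr, Finset.mem_singleton]
        refine ⟨fun h => ?_, fun h => by rw [h]; exact SameCol.refl o o⟩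
        obtain ⟨g, h1, h2⟩ := h
        exact h2.symm.trans h1⟩
      rw [ho1]
      have e3 : n - 1 = ρ + m := by omega
      rw [e3]
      nlinarith
    obtain ⟨D₁, hD₁⟩ : ∃ D₁, D₁ = (dist2 G o c).card := ⟨_, rfl⟩
    have hcomm : ∀ x y, x ≠ y → ∃ w, SameCol G o c x w ∧ SameCol G o c y w := fun x y _ => by
      have h1 := Finset.card_union_add_card_inter (colNbr G o c x) (colNbr G o c y)
      rw [card_colNbr o c x o, card_colNbr o c y o, ← hm] at h1
      have h2 := hn ▸ Finset.card_le_univ (colNbr G o c x ∪ colNbr G o c y)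
      obtain ⟨w, hw⟩ := Finset.card_pos.1 (show 0 < (colNbr G o c x ∩ colNbr G o c y).card by omega)
      rw [Finset.mem_inter, mem_colNbr, mem_colNbr] at hw
      exact ⟨w, hw⟩
    have hM2 : M ≤ 2 * D₁ := by
      by_cases hpq : p = q
      · rw [hMdef, hpq, dist2_self]; simp
      obtain ⟨w, h1, h2⟩ := hcomm p q hpq
      rw [hMdef]
      refine (Finset.card_le_card (dist2_triangle p w q)).trans ((Finset.card_union_le _ _).trans ?_)
      rw [card_dist2_of_sameCol (Or.inl h1), card_dist2_of_sameCol (Or.inr h2), ← hD₁]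
      omega
    have hD₁' : m * (ρ + 1) ≤ (n - 1) * D₁ := by
      have := Nat.mul_le_mul_left (n - 1) hM2
      have e : (n - 1) * (2 * D₁) = 2 * ((n - 1) * D₁) := by ring
      omega
    obtain ⟨X, hX⟩ : ∃ X, X = coGraph G o c := ⟨_, rfl⟩
    obtain ⟨v, hv⟩ : ∃ v, v ∈ R := by
      by_contra h
      push Not at h
      have hall : ∀ w, o ≠ w → SameCol G o c o w := fun w hw => by
        have := h w
        rw [hR] at this
        simpa [mem_colNbr, Ne.symm hw] using this
      exact hxy₀ ((hall _ hx₀).symm.trans (hall _ hy₀))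
    have hXR : ∀ w, X.Adj o w ↔ w ∈ R := fun w => by
      rw [hX, hR]
      simp only [coGraph, Finset.mem_sdiff, Finset.mem_univ, true_and, Finset.mem_insert, mem_colNbr, not_or, ne_comm]
      exact ⟨fun h => ⟨h.1, h.2.1⟩, fun h => ⟨h.1, h.2, fun h' => h.2 (hsymm _ _ h')⟩⟩
    have hXi : Invariant G X := hX ▸ invariant_coGraph o c
    have hXc : X.Connected := connected_of_primitive hXi ((hXR v).2 hv)
    have hXdeg : ∀ x, X.degree x = ρ := fun x => by
      rw [degree_eq (G := G) hXi x o, hρ, ← SimpleGraph.card_neighborFinset_eq_degree]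
      congr 1
      ext w
      rw [SimpleGraph.mem_neighborFinset, hXR]
    have hm_le : n - 1 ≤ ρ * ρ := by
      obtain ⟨P, hP⟩ := hXc.exists_walk_length_eq_dist o c
      have hlen : 2 ≤ X.dist o c := hXc.one_lt_dist_of_ne_of_not_adj hco (fun h => by
        have := (hXR c).1 h
        simp [hR, mem_colNbr, SameCol.refl] at this)
      have hv1 : X.Adj o (P.getVert 1) := by simpa using P.adj_getVert_succ (i := 0) (by omega)
      have hv2 : X.Adj (P.getVert 1) (P.getVert 2) := P.adj_getVert_succ (i := 1) (by omega)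
      have hd2 : 2 ≤ X.dist o (P.getVert 2) := by
        have h1 := SimpleGraph.dist_le (P.drop 2)
        rw [SimpleGraph.Walk.drop_length, hP] at h1
        have h2 := hXc.dist_triangle (u := o) (v := P.getVert 2) (w := c)
        omega
      have hne2 : o ≠ P.getVert 2 := fun h => by rw [← h, SimpleGraph.dist_self] at hd2; omega
      have hcol : SameCol G o c o (P.getVert 2) := by
        by_contra h
        have hadj : X.Adj o (P.getVert 2) := (hXR _).2 (by
          rw [hR]
          simp [mem_colNbr, h, hne2.symm])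
        rw [SimpleGraph.dist_eq_one_iff_adj.2 hadj] at hd2
        omega
      have hsub : colNbr G o c o ⊆ (X.neighborFinset o).biUnion fun y => (X.neighborFinset y).erase o := by
        intro w hw
        rw [mem_colNbr] at hw
        obtain ⟨g, hg1, hg2⟩ := hcol.symm.trans hw
        rw [Finset.mem_biUnion]
        refine ⟨g • P.getVert 1, ?_, ?_⟩
        · rw [SimpleGraph.mem_neighborFinset]
          have := hXi g _ _ hv1
          rwa [hg1] at this
        · rw [Finset.mem_erase, SimpleGraph.mem_neighborFinset]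
          have := hXi g _ _ hv2
          rw [hg2] at this
          exact ⟨fun h => hno (by rw [h] at hw; exact mem_colNbr.2 hw), this⟩
      have hle := (Finset.card_le_card hsub).trans (Finset.card_biUnion_le_card_mul _ _ (ρ - 1) fun y hy => by
        rw [SimpleGraph.mem_neighborFinset] at hy
        rw [Finset.card_erase_of_mem (by rw [SimpleGraph.mem_neighborFinset]; exact hy.symm),
          SimpleGraph.card_neighborFinset_eq_degree, hXdeg])
      rw [← hm, SimpleGraph.card_neighborFinset_eq_degree, hXdeg] at hle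
      rcases Nat.eq_zero_or_pos ρ with h0 | h0
      · rw [h0] at hle; omega
      · have : ρ * (ρ - 1) + ρ = ρ * ρ := by
          rw [← Nat.mul_succ, Nat.succ_eq_add_one, Nat.sub_add_cancel h0]
        omega
    by_cases hcab : SameCol G o c a b ∨ SameCol G o c b a
    · have hDD : D = D₁ := by rw [hD, hD₁]; exact card_dist2_of_sameCol hcab
      rw [hDD]
      have h2 : ρ + 1 ≤ 2 * D₁ := by
        suffices h : (n - 1) * (ρ + 1) ≤ (n - 1) * (2 * D₁) from Nat.le_of_mul_le_mul_left h (by omega)
        calc (n - 1) * (ρ + 1) ≤ 2 * m * (ρ + 1) := Nat.mul_le_mul_right _ (by omega)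
          _ ≤ (n - 1) * (2 * D₁) := by nlinarith
      rw [sq]
      nlinarith
    · obtain ⟨δ, hδ⟩ : ∃ δ, δ = E.dist o c := ⟨_, rfl⟩
      have hδ2 : 2 ≤ δ := hδ ▸ hEc.one_lt_dist_of_ne_of_not_adj hco (fun h => by
        rw [hE] at h
        rcases h.2 with h' | h'
        · exact hcab (Or.inl h'.symm)
        · exact hcab (Or.inr h'.symm.swap))
      obtain ⟨k, hk⟩ : ∃ k, k = (δ + 1) / 3 := ⟨_, rfl⟩
      have hball := geodesic_balls hEc hN o c k (fun j hj => by omega)
      have hsub : (univ.filter fun w => ∃ j < k, E.dist o w ≤ 3 * j + 1) ⊆ insert o R := by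
        intro w hw
        rw [Finset.mem_filter] at hw
        obtain ⟨-, j, hj, hw⟩ := hw
        rw [Finset.mem_insert]
        by_contra hcon
        push Not at hcon
        have hwc : SameCol G o c o w := by
          have := hcon.2
          rw [hR] at this
          simpa [mem_colNbr, hcon.1] using this
        rw [hEi.dist_eq hEc hwc, ← hδ] at hw
        omega
      have hkN : k * (N + 1) ≤ ρ + 1 := hρ ▸ (hball.trans (Finset.card_le_card hsub)).trans (Finset.card_insert_le _ _)
      have hD₁d : D₁ ≤ δ * D := by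
        obtain ⟨w, hw⟩ := hEc.exists_walk_length_eq_dist o c
        rw [hD₁, hδ, ← hw]
        exact card_dist2_walk hED w
      have h1 : (n - 1) * (δ * N) ≤ 4 * ((n - 1) * (k * (N + 1))) := by
        rw [show 4 * ((n - 1) * (k * (N + 1))) = (n - 1) * ((4 * k) * (N + 1)) by ring]
        exact Nat.mul_le_mul_left _ (Nat.mul_le_mul (by omega) (by omega))
      have h2 : (n - 1) * (k * (N + 1)) ≤ 2 * m * (ρ + 1) := Nat.mul_le_mul (by omega) hkN
      have h3 : 2 * m * (ρ + 1) ≤ N * D * (δ * D) :=
        calc 2 * m * (ρ + 1) ≤ 2 * ((n - 1) * D₁) := by nlinarith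
          _ = 2 * (n - 1) * D₁ := by ring
          _ ≤ _ := Nat.mul_le_mul hND hD₁d
      have h4 : (n - 1) * (δ * N) ≤ (4 * D ^ 2) * (δ * N) :=
        calc (n - 1) * (δ * N) ≤ 4 * (N * D * (δ * D)) := by omega
          _ = _ := by ring
      refine Nat.le_of_mul_le_mul_right h4 (Nat.mul_pos (by omega) (Nat.pos_of_ne_zero fun h0 => ?_))
      rw [h0, zero_mul] at hND
      omega

/-- a moved point gives a lower bound on the support -/
theorem sqrt_le_support (o : Ω) (huni : ∃ x y : Ω, o ≠ x ∧ o ≠ y ∧ ¬ SameCol G o x o y) {g : G} {x : Ω}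
    (hx : g • x ≠ x) :
    Fintype.card Ω - 1 ≤ 4 * ((univ : Finset Ω).filter fun z => g • z ≠ z).card ^ 2 := by
  classical
  refine (four_mul_sq_dist2 o huni (Ne.symm hx)).trans (Nat.mul_le_mul_left 4 (Nat.pow_le_pow_left
    (Finset.card_le_card fun z hz => ?_) 2))
  rw [Finset.mem_filter]
  refine ⟨Finset.mem_univ _, fun hgz => ?_⟩
  rw [mem_dist2] at hz
  exact hz ⟨g, hgz, rfl⟩

end Fin

end CfsgLib.Perm.MinDegree
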